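import Groth.Agent.Sga2lef.H78.KCalc
import Groth.Agent.Desc.FinLocFreeSections
import Groth.Agent.Ega2.QCohLocal

/-!
# Dual bases of the sections of a module killed by an ideal and locally free over the closed subscheme
-/

set_option autoImplicit false
universe u

open CategoryTheory CategoryTheory.Limits AlgebraicGeometry Opposite

namespace Groth.Agent.Sga2lef.H78.DualBasis

open Groth.Agent.FormalB Groth.Agent.FormalB.KQuot Groth.Agent.FormalB.TrKQuot KCalc

theorem exists_dualBasis (R P : Type u) [CommRing R] [AddCommGroup P] [Module R P]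
    [Module.FinitePresentation R P] [Module.Flat R P] :
    ∃ (r : ℕ) (a : Fin r → P →ₗ[R] R) (b : Fin r → P), ∀ z, z = ∑ j, a j z • b j := by
  obtain ⟨r, f, hf⟩ := Module.Finite.exists_fin' R P
  have hp : Module.Projective R P := Module.Flat.projective_of_finitePresentation
  obtain ⟨g, hg⟩ := Module.projective_lifting_property f LinearMap.id hf
  refine ⟨r, fun j => LinearMap.proj j ∘ₗ g, fun j => f (Pi.single j 1), fun z => ?_⟩
  have h1 : f (g z) = z := congrArg (fun l => l z) hg
  conv_lhs => rw [← h1]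
  rw [← Finset.univ_sum_single (g z), map_sum]
  refine Finset.sum_congr rfl fun j _ => ?_
  have h2 : (Pi.single j (g z j) : Fin r → R) = g z j • Pi.single j 1 := by
    rw [← Pi.single_smul', smul_eq_mul, mul_one]
  rw [h2, map_smul]
  rfl

variable {X : Scheme.{u}}

theorem bijective_kπ (I : X.IdealSheafData) {G : X.Modules} (hG : ClSub.KilledByIdeal I G)
    (V : X.Opens) : Function.Bijective ((kπ I G).app V) := by
  have := isIso_kπ I hG
  have h : IsIso ((kπ I G).app V) := inferInstance
  exact ConcreteCategory.bijective_of_isIso _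

/-- Dual basis of the sections over an affine open. -/
theorem exists_dualBasis_sec (I : X.IdealSheafData) {G : X.Modules} (hG : ClSub.KilledByIdeal I G)
    (hlf : FlatMod.IsFinLocFree ((Scheme.Modules.pullback I.subschemeι).obj G))
    {V : X.Opens} (hV : IsAffineOpen V) :
    ∃ (r : ℕ) (a : Fin r → Γ(G, V) →+ Γ(I.subscheme, I.subschemeι ⁻¹ᵁ V)) (b : Fin r → Γ(G, V)),
      (∀ j (c : Γ(X, V)) z, a j (c • z) = I.subschemeι.app V c * a j z) ∧
      ∀ z (c : Fin r → Γ(X, V)), (∀ j, I.subschemeι.app V (c j) = a j z) → z = ∑ j, c j • b j := by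
  let E := (Scheme.Modules.pullback I.subschemeι).obj G
  let W := I.subschemeι ⁻¹ᵁ V
  have hW : IsAffineOpen W := hV.preimage I.subschemeι
  have hE : Coh.IsQCoh E := Ega2.QCohLocal.isQCoh_of_isFinLocFree hlf
  obtain ⟨h1, h2⟩ := (Desc.FinLocFreeSections.isFinLocFree_iff_of_cover hE (fun _ => True)
    (fun x => by
      obtain ⟨U, hU, hx, -⟩ := exists_isAffineOpen_mem_and_subset (x := x) (U := ⊤) trivial
      exact ⟨U, trivial, hU, hx⟩)).mp hlf W trivial hW
  obtain ⟨r, a, b, hab⟩ := exists_dualBasis Γ(I.subscheme, W) Γ(E, W)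
  let e : Γ(G, V) →+ Γ(E, W) := ((kπ I G).app V).hom
  have he : Function.Bijective e := bijective_kπ I hG V
  have hes : ∀ (c : Γ(X, V)) z, e (c • z) = I.subschemeι.app V c • e z := fun c z =>
    Scheme.Modules.Hom.app_smul (kπ I G) c z
  choose b' hb' using fun j => he.2 (b j)
  refine ⟨r, fun j => (a j).toAddMonoidHom.comp e, b', fun j c z => ?_, fun z c hc => ?_⟩
  · change a j (e (c • z)) = _ * a j (e z)
    rw [hes, map_smul, smul_eq_mul]
  · apply he.1
    rw [hab (e z), map_sum]
    refine Finset.sum_congr rfl fun j _ => ?_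
    rw [hes, hb', hc j]
    rfl

end Groth.Agent.Sga2lef.H78.DualBasis
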