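import Groth.Agent.FormalB.TrKQuot
import Groth.Prelude.Def_FlatMod2
import Groth.Agent.PerfC.PullRestrict

/-!
# Adic systems of modules on a scheme (quotient calculus)

* calculus of `IsKQuot K p` (`p : M ⟶ N` exhibits `N` as `M / K M`);
* `Sys K`: inverse systems `G n` with `G (n+1) / K^(n+1) = G n`, quasi-coherent, finite locally free over
  `O / K^(n+1)`;
* `Alg S F`: `F / K^(n+1) = S.G n`, compatibly.
-/

set_option autoImplicit false
universe u

open CategoryTheory CategoryTheory.Limits AlgebraicGeometry Opposite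

namespace Groth.Agent.Sga2lef.H78.KCalc

open Groth.Agent.FormalB.KQuot Groth.Agent.FormalB.TrKQuot

variable {X : Scheme.{u}} {K K' : X.IdealSheafData} {M N P : X.Modules}

theorem isKQuot_comp {p : M ⟶ N} {q : N ⟶ P} (hp : IsKQuot K p) (hq : IsKQuot K' q) (h : K ≤ K') :
    IsKQuot K' (p ≫ q) := by
  have := hp.epi
  have := hq.epi
  refine ⟨inferInstance, hq.killed, fun {Z} φ hφ => ?_⟩
  obtain ⟨ψ, hψ⟩ := hp.desc φ (killedByIdeal_of_le h hφ)
  obtain ⟨χ, hχ⟩ := hq.desc ψ hφ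
  exact ⟨χ, by rw [Category.assoc, hχ, hψ]⟩

theorem isKQuot_of_comp {p : M ⟶ N} {q : N ⟶ P} [Epi p] (h : IsKQuot K' (p ≫ q)) :
    IsKQuot K' q := by
  have := h.epi
  refine ⟨epi_of_epi p q, h.killed, fun {Z} φ hφ => ?_⟩
  obtain ⟨ψ, hψ⟩ := h.desc (p ≫ φ) hφ
  refine ⟨ψ, ?_⟩
  rw [← cancel_epi p, ← Category.assoc, hψ]

/-- Change of the ideal. -/
theorem exists_factor {p : M ⟶ N} {r : M ⟶ P} (hp : IsKQuot K p) (hr : IsKQuot K' r) (h : K ≤ K') :
    ∃ q : N ⟶ P, p ≫ q = r ∧ IsKQuot K' q := by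
  have := hp.epi
  obtain ⟨q, hq⟩ := hp.desc r (killedByIdeal_of_le h hr.killed)
  exact ⟨q, hq, isKQuot_of_comp (p := p) (by rw [hq]; exact hr)⟩

/-- Adic systems of modules along `K`. -/
structure Sys (K : X.IdealSheafData) where
  /-- the modules -/
  G : ℕ → X.Modules
  /-- the transition maps -/
  t : ∀ n, G (n + 1) ⟶ G n
  kq : ∀ n, IsKQuot (K ^ (n + 1)) (t n)
  qc : ∀ n, Coh.IsQCoh (G n)
  lf : ∀ n, FlatMod.IsFinLocFree ((Scheme.Modules.pullback (K ^ (n + 1)).subschemeι).obj (G n))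

namespace Sys

variable (S : Sys K)

theorem killed (n : ℕ) : ClSub.KilledByIdeal (K ^ (n + 1)) (S.G n) := (S.kq n).killed

/-- Composite transition maps. -/
noncomputable def tr {n m : ℕ} (h : n ≤ m) : S.G m ⟶ S.G n :=
  (Functor.ofOpSequence S.t).map (homOfLE h).op

theorem tr_refl (n : ℕ) : S.tr (le_refl n) = 𝟙 _ :=
  (Functor.ofOpSequence S.t).map_id _

@[reassoc]
theorem tr_comp {l n m : ℕ} (h : l ≤ n) (h' : n ≤ m) : S.tr h' ≫ S.tr h = S.tr (h.trans h') := by
  exact ((Functor.ofOpSequence S.t).map_comp (homOfLE h').op (homOfLE h).op).symm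

theorem tr_succ (n : ℕ) : S.tr (Nat.le_succ n) = S.t n :=
  Functor.ofOpSequence_map_homOfLE_succ S.t n

theorem isKQuot_tr {n m : ℕ} (h : n ≤ m) : IsKQuot (K ^ (n + 1)) (S.tr h) := by
  induction m, h using Nat.le_induction with
  | base => rw [tr_refl]; exact IsKQuot.id (S.killed n)
  | succ m h ih =>
    rw [← S.tr_comp h (Nat.le_succ m), tr_succ]
    refine isKQuot_comp (S.kq m) ih ?_
    exact pow_le_pow_of_le_one bot_le le_top (by omega)

end Sys

/-- The quotient maps of `F` to the levels. -/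
theorem tr_of_compat (S : Sys K) {F : X.Modules} (p : ∀ n, F ⟶ S.G n)
    (hp : ∀ n, p (n + 1) ≫ S.t n = p n) {n m : ℕ} (h : n ≤ m) : p m ≫ S.tr h = p n := by
  induction m, h using Nat.le_induction with
  | base => rw [Sys.tr_refl, Category.comp_id]
  | succ m h ih => rw [← S.tr_comp h (Nat.le_succ m), Sys.tr_succ, reassoc_of% hp, ih]

/-- `F` algebraizes the system `S`. -/
def Alg (S : Sys K) (F : X.Modules) : Prop :=
  ∃ p : ∀ n, F ⟶ S.G n, (∀ n, p (n + 1) ≫ S.t n = p n) ∧ ∀ n, IsKQuot (K ^ (n + 1)) (p n)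

end Groth.Agent.Sga2lef.H78.KCalc
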