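import Groth.Prelude.Def_FlatMod2
import Groth.Prelude.Def_Pic
import Groth.Agent.PerfB.FreeRank
import Groth.Agent.Ega3B.PullTensor
import Groth.Agent.Fdesc.LocGenPullback

/-!
# A module which is finite free near `x` and whose pull-back to some scheme through `x` is invertible
has a generator near `x`.
-/

set_option autoImplicit false
universe u
open CategoryTheory CategoryTheory.Limits AlgebraicGeometry TopologicalSpace Opposite

namespace Groth.Agent.Sga2lef.H78.RankOne

open Groth.Agent.Fdesc.LocGen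

variable {X Y Z : Scheme.{u}}

/-- Pull-back of free modules. -/
theorem nonempty_pullbackFreeMod (f : X ⟶ Y) (n : ℕ) :
    Nonempty ((Scheme.Modules.pullback f).obj (FlatMod.freeMod Y n) ≅ FlatMod.freeMod X n) := by
  obtain ⟨e⟩ := Ega3B.PullTensor.nonempty_pullUnitIso f
  exact ⟨PreservesCoproduct.iso (Scheme.Modules.pullback f) _ ≪≫ Limits.Sigma.mapIso fun _ => e⟩

/-- The free module of rank one. -/
theorem nonempty_freeMod_one (X : Scheme.{u}) : Nonempty (Coh.structureModule X ≅ FlatMod.freeMod X 1) :=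
  ⟨(coproductUniqueIso (fun _ : Fin 1 => Coh.structureModule X)).symm⟩

/-- If `M|_V` is free of rank `n` (`j : V ⟶ X` an open immersion) and the pull-back of `M` along `g : Z ⟶ X` is
invertible, and `g z = j v` then `n = 1`. -/
theorem rank_eq_one {V : Scheme.{u}} (j : V ⟶ X) [IsOpenImmersion j] {M : X.Modules} {n : ℕ}
    (e : M.restrict j ≅ FlatMod.freeMod V n) (g : Z ⟶ X)
    (hg : PicF.IsInvertible ((Scheme.Modules.pullback g).obj M)) (z : Z) (hz : g z ∈ j.opensRange) : n = 1 := by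
  obtain ⟨W, hzW, ⟨e'⟩⟩ := hg z
  let T : Z.Opens := W ⊓ g ⁻¹ᵁ j.opensRange
  have hzT : z ∈ T := ⟨hzW, hz⟩
  let a : (T : Scheme.{u}) ⟶ W := Z.homOfLE inf_le_left
  have ha : a ≫ W.ι = T.ι := Z.homOfLE_ι _
  let b : (T : Scheme.{u}) ⟶ V := IsOpenImmersion.lift j (T.ι ≫ g) (by
    rintro _ ⟨t, rfl⟩
    have := t.2.2
    exact this)
  have hb : b ≫ j = T.ι ≫ g := IsOpenImmersion.lift_fac _ _ _
  obtain ⟨u1⟩ := Ega3B.PullTensor.nonempty_pullUnitIso a
  obtain ⟨u2⟩ := nonempty_pullbackFreeMod b n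
  obtain ⟨u3⟩ := nonempty_freeMod_one (T : Scheme.{u})
  -- `(T.ι ≫ g)^* M ≅ O_T`
  have e1 : (Scheme.Modules.pullback (T.ι ≫ g)).obj M ≅ Coh.structureModule (T : Scheme.{u}) :=
    ((Scheme.Modules.pullbackComp T.ι g).app M).symm ≪≫
      (Scheme.Modules.pullbackCongr ha.symm).app _ ≪≫
      ((Scheme.Modules.pullbackComp a W.ι).app _).symm ≪≫
      (Scheme.Modules.pullback a).mapIso ((Scheme.Modules.restrictFunctorIsoPullback W.ι).symm.app _ ≪≫ e') ≪≫ u1
  have e2 : (Scheme.Modules.pullback (T.ι ≫ g)).obj M ≅ FlatMod.freeMod (T : Scheme.{u}) n :=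
    (Scheme.Modules.pullbackCongr hb.symm).app M ≪≫
      ((Scheme.Modules.pullbackComp b j).app M).symm ≪≫
      (Scheme.Modules.pullback b).mapIso ((Scheme.Modules.restrictFunctorIsoPullback j).symm.app _ ≪≫ e) ≪≫ u2
  exact PerfB.FreeRank.rank_eq (⟨z, hzT⟩ : (T : Scheme.{u})) (e2.symm ≪≫ e1 ≪≫ u3)

/-- If `M|_V` is free of rank `n` (`j : V ⟶ X` an open immersion) and the pull-back of `M` along `g : Z ⟶ X` is
invertible, and `g z` lies in `V`, then there is a generator of `M` near `g z`. -/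
theorem exists_gen {V : Scheme.{u}} (j : V ⟶ X) [IsOpenImmersion j] {M : X.Modules} {n : ℕ}
    (e : M.restrict j ≅ FlatMod.freeMod V n) (g : Z ⟶ X)
    (hg : PicF.IsInvertible ((Scheme.Modules.pullback g).obj M)) (z : Z) (hz : g z ∈ j.opensRange) :
    ∃ (W : X.Opens) (s : Γ(M, W)), g z ∈ W ∧ IsGen s := by
  obtain rfl := rank_eq_one j e g hg z hz
  obtain ⟨u⟩ := nonempty_freeMod_one V
  let e' : Coh.structureModule V ≅ M.restrict j := u ≪≫ e.symm
  have h1 : IsGen (sec e'.hom ⊤) := (isIso_iff_isGen e'.hom).mp inferInstance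
  obtain ⟨m, hm⟩ := (toRestrict (M := M) j (U := ⊤)).surjective (sec e'.hom ⊤)
  rw [← hm, isGen_toRestrict_iff] at h1
  exact ⟨_, m, by rw [j.image_top_eq_opensRange]; exact hz, h1⟩

end Groth.Agent.Sga2lef.H78.RankOne
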